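import Cfsg.Agent.H415.C3.KitTwo

/-!
# S1920, case B, E8, z of type D8: the SL2 contradiction (helper271)

`R : D → GL(V)` a representation of a finite group with `R g + R g⁻¹` a scalar for all `g` (e.g. an isotypic multiple of a
2-dimensional representation of determinant 1 and of its dual), `ψ : D → A₆` onto with `ker R ≤ ker ψ`, `x`, `y` 5-elements with
`ψ x = c5`, `ψ y = c5²` and the same `R g + R g⁻¹`: contradiction (`quat_false`).
-/

set_option autoImplicit false

open Subgroup Equiv.Perm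

namespace Cfsg.Agent.H271.Co3

universe w

open Cfsg.Agent.H415.C3 (c5 c3 sign_c5 odd_of_conj card_A6)

variable {k V D : Type*} [Field k] [IsAlgClosed k] [AddCommGroup V] [Module k V] [Nontrivial V] [Group D] [Finite D]

/-- `R g + R g⁻¹` is a scalar -/
def Quat (R : D →* (V →ₗ[k] V)) : Prop := ∀ g, ∃ t : k, ∀ v, R g v + R g⁻¹ v = t • v

omit [IsAlgClosed k] [Nontrivial V] [Finite D] in
theorem mul_apply' (R : D →* (V →ₗ[k] V)) (a b : D) (v : V) : R a (R b v) = R (a * b) v := by
  rw [map_mul]; rfl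

omit [IsAlgClosed k] [Nontrivial V] [Finite D] in
/-- a unipotent element of order prime to the characteristic is trivial -/
theorem eq_one_of_unip (R : D →* (V →ₗ[k] V)) {n : ℕ} (hn : (n : k) ≠ 0) {a : D} (ha : a ^ n = 1)
    (h : ∀ v, R a (R a v - v) = R a v - v) : ∀ v, R a v = v := by
  intro v
  have h1 : ∀ m : ℕ, R (a ^ m) v = v + (m : k) • (R a v - v) := by
    intro m
    induction m with
    | zero => simp
    | succ m ih =>
      rw [pow_succ', ← mul_apply', ih, map_add, map_smul, h]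
      push_cast
      rw [add_smul, one_smul]
      abel
  have h2 := h1 n
  rw [ha, map_one, Module.End.one_apply] at h2
  have h3 : (n : k) • (R a v - v) = 0 := by
    have := sub_eq_zero.2 h2.symm
    simpa using this
  rcases smul_eq_zero.1 h3 with h4 | h4
  · exact absurd h4 hn
  · exact sub_eq_zero.1 h4

/-- **Sylow subgroups are cyclic**, with a common eigenvector. -/
theorem exists_char (R : D →* (V →ₗ[k] V)) (hR : Quat R) (h2 : (2 : k) ≠ 0) (hinj : Function.Injective R)
    {r : ℕ} [hr : Fact r.Prime] (hr2 : r ≠ 2) (hrk : (r : k) ≠ 0) (S : Subgroup D) (hS : IsPGroup r S) :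
    ∃ v : V, v ≠ 0 ∧ ∃ χ : S →* k, Function.Injective χ ∧ ∀ b : S, R b v = χ b • v := by
  classical
  obtain ⟨v0, hv0⟩ := exists_ne (0 : V)
  by_cases hSb : S = ⊥
  · refine ⟨v0, hv0, 1, ?_, ?_⟩
    · intro a b _
      have ha : (a : D) = 1 := mem_bot.1 (hSb.le a.2)
      have hb : (b : D) = 1 := mem_bot.1 (hSb.le b.2)
      exact Subtype.ext (ha.trans hb.symm)
    · intro b
      have hb : (b : D) = 1 := mem_bot.1 (hSb.le b.2)
      rw [hb, map_one]
      simp
  have hnt : Nontrivial S := (Subgroup.nontrivial_iff_ne_bot S).2 hSb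
  have hcn : Nontrivial (Subgroup.center S) := hS.center_nontrivial
  obtain ⟨⟨a, ha⟩, hane⟩ := exists_ne (1 : Subgroup.center S)
  have hacen : ∀ b : S, (b : D) * a = a * b := by
    intro b
    exact congrArg Subtype.val (mem_center_iff.1 ha b)
  have ha1 : (a : D) ≠ 1 := by
    intro h
    apply hane
    exact Subtype.ext (Subtype.ext h)
  -- the scalars
  choose t ht using hR
  -- `δ g = R g - R g⁻¹`
  let δ : D → V →ₗ[k] V := fun g => R g - R g⁻¹
  have hδ : ∀ g v, δ g v = R g v - R g⁻¹ v := fun g v => rfl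
  -- `δ a ∘ δ b` is a scalar if `a`, `b` commute
  have hδδ : ∀ g h : D, g * h = h * g → ∀ v, δ g (δ h v) = (t (g * h) - t (g * h⁻¹)) • v := by
    intro g h hgh v
    have e1 := ht (g * h) v
    have e2 := ht (g * h⁻¹) v
    have i1 : (g * h)⁻¹ = g⁻¹ * h⁻¹ := by rw [mul_inv_rev, ← mul_inv_rev g h, hgh, mul_inv_rev]
    have i2 : (g * h⁻¹)⁻¹ = g⁻¹ * h := by
      rw [mul_inv_rev, inv_inv]
      rw [eq_inv_mul_iff_mul_eq, ← mul_assoc, hgh, mul_inv_cancel_right]
    rw [i1] at e1
    rw [i2] at e2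
    rw [sub_smul, ← e1, ← e2, hδ, hδ, map_sub, map_sub, mul_apply', mul_apply', mul_apply', mul_apply']
    abel
  -- `δ a ^ 2 ≠ 0`
  set d : k := t ((a : D) * a) - t ((a : D) * (a : D)⁻¹) with hd
  have hd0 : d ≠ 0 := by
    intro h0
    have h1 : ∀ v, δ a (δ a v) = 0 := by
      intro v
      rw [hδδ a a rfl v, ← hd, h0, zero_smul]
    -- `a²` is unipotent
    have h2' : ∀ v, R ((a : D) * a) (R ((a : D) * a) v - v) = R ((a : D) * a) v - v := by
      intro v
      have e1 : R ((a : D) * a) v - v = R a (δ a v) := by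
        rw [hδ, map_sub, mul_apply', mul_apply', mul_inv_cancel, map_one, Module.End.one_apply]
      have e2 : R (a : D) (δ a v) = R (a : D)⁻¹ (δ a v) := by
        have := h1 v
        rw [hδ (a : D) (δ a v)] at this
        exact sub_eq_zero.1 this
      have e3 : R ((a : D) * a) (R (a : D) (δ a v)) = R ((a : D) * a) (R (a : D)⁻¹ (δ a v)) := by rw [e2]
      rw [e1, e3, mul_apply', show (a : D) * a * (a : D)⁻¹ = a by group]
    obtain ⟨m, hm⟩ := hS.exists_card_eq
    have hord : ((a : D) * a) ^ (r ^ m) = 1 := by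
      have h3 : a ^ (r ^ m) = 1 := by
        rw [← hm]; exact pow_card_eq_one'
      have h4 : (a : D) ^ (r ^ m) = 1 := by
        rw [← SubmonoidClass.coe_pow, h3]; rfl
      rw [← pow_two, ← pow_mul, mul_comm, pow_mul, h4, one_pow]
    have hn : ((r ^ m : ℕ) : k) ≠ 0 := by
      push_cast
      exact pow_ne_zero _ hrk
    have h5 := eq_one_of_unip R hn hord h2'
    have h6 : (a : D) * a = 1 := by
      apply hinj
      rw [map_one]
      ext v
      exact h5 v
    -- order prime to 2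
    have h7 : orderOf (a : D) ∣ 2 := orderOf_dvd_of_pow_eq_one (by rw [pow_two]; exact h6)
    have h8 : orderOf (a : D) ∣ r ^ m := by
      apply orderOf_dvd_of_pow_eq_one
      rw [← SubmonoidClass.coe_pow, ← hm, pow_card_eq_one']
      rfl
    have h9 : Nat.Coprime 2 (r ^ m) := by
      apply Nat.Coprime.pow_right
      exact (Nat.coprime_primes Nat.prime_two hr.out).2 (Ne.symm hr2)
    have h10 : orderOf (a : D) ∣ 1 := by
      rw [← h9]; exact Nat.dvd_gcd h7 h8
    exact ha1 (orderOf_eq_one_iff.1 (Nat.dvd_one.1 h10))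
  -- a square root of `d`
  obtain ⟨e, he⟩ := IsAlgClosed.exists_pow_nat_eq d (n := 2) (by norm_num)
  have he0 : e ≠ 0 := by
    intro h
    apply hd0
    rw [← he, h]; norm_num
  -- an eigenvector of `δ a`
  have hev : ∃ e' : k, e' ≠ 0 ∧ ∃ v : V, v ≠ 0 ∧ δ a v = e' • v := by
    by_cases h : δ a v0 - e • v0 = 0
    · exact ⟨e, he0, v0, hv0, sub_eq_zero.1 h⟩
    · refine ⟨-e, neg_ne_zero.2 he0, δ a v0 - e • v0, h, ?_⟩
      rw [map_sub, map_smul, hδδ a a rfl v0, ← hd, ← he]
      rw [smul_sub, smul_smul, neg_smul, neg_mul, neg_smul, pow_two]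
      abel
  obtain ⟨e', he', v, hv, hav⟩ := hev
  -- all elements of `S` have `v` as an eigenvector
  have key : ∀ b : S, ∃ f : k, δ b v = f • v ∧ (f = 0 → ∀ w, δ b w = 0) := by
    intro b
    -- `δ a (δ b w) = c • w`
    set c : k := t ((a : D) * b) - t ((a : D) * (b : D)⁻¹) with hc
    have h1 : ∀ w, δ a (δ b w) = c • w := fun w => hδδ a b (hacen b).symm w
    have h3 : ∀ w, d • δ b w = c • δ a w := by
      intro w
      have h4 : δ a (δ a (δ b w)) = d • δ b w := hδδ a a rfl _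
      rw [h1, map_smul] at h4
      exact h4.symm
    refine ⟨d⁻¹ * (c * e'), ?_, ?_⟩
    · have h5 := h3 v
      rw [hav] at h5
      rw [mul_smul, mul_smul, ← h5, smul_smul, inv_mul_cancel₀ hd0, one_smul]
    · intro h0 w
      have hc0 : c = 0 := by
        rcases mul_eq_zero.1 h0 with h | h
        · exact absurd h (inv_ne_zero hd0)
        · rcases mul_eq_zero.1 h with h | h
          · exact h
          · exact absurd h he'
      have h5 := h3 w
      rw [hc0, zero_smul] at h5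
      rcases smul_eq_zero.1 h5 with h | h
      · exact absurd h hd0
      · exact h
  choose f hf hf0 using key
  have hchi : ∀ b : S, R b v = ((t b + f b) / 2) • v := by
    intro b
    have e1 := ht b v
    have e2 := hf b
    rw [hδ] at e2
    have e3 : (2 : k) • R b v = (t b + f b) • v := by
      rw [add_smul, ← e1, ← e2, two_smul]; abel
    rw [div_eq_inv_mul, mul_smul, ← e3, smul_smul, inv_mul_cancel₀ h2, one_smul]
  have hchim : ∀ b c : S, (t ((b * c : S) : D) + f (b * c)) / 2 = (t b + f b) / 2 * ((t c + f c) / 2) := by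
    intro b c
    have h3 := hchi (b * c)
    have h4 : R ((b * c : S) : D) v = ((t b + f b) / 2 * ((t c + f c) / 2)) • v := by
      rw [Subgroup.coe_mul, ← mul_apply', hchi c, map_smul, hchi b, smul_smul, mul_comm]
    rw [h4] at h3
    exact (smul_left_injective k hv h3).symm
  refine ⟨v, hv, ⟨⟨fun b => (t b + f b) / 2, ?_⟩, hchim⟩, ?_, hchi⟩
  · have h3 := hchi 1
    rw [Subgroup.coe_one, map_one, Module.End.one_apply] at h3
    have h4 : (1 : k) • v = ((t ((1 : S) : D) + f 1) / 2) • v := by rw [one_smul]; exact h3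
    exact (smul_left_injective k hv h4).symm
  · refine (injective_iff_map_eq_one _).2 ?_
    intro b hb
    have hb1 : (t b + f b) / 2 = 1 := hb
    have h3 : R b v = v := by rw [hchi b, hb1, one_smul]
    have h4 : R (b : D)⁻¹ v = v := by
      nth_rewrite 1 [← h3]
      rw [mul_apply', inv_mul_cancel, map_one, Module.End.one_apply]
    have h5 : f b • v = 0 := by
      rw [← hf, hδ, h3, h4, sub_self]
    have h6 : f b = 0 := by
      rcases smul_eq_zero.1 h5 with h | h
      · exact h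
      · exact absurd h hv
    have h7 : ∀ w, R b w = w := by
      intro w
      have h8 := hf0 b h6 w
      have h9 := ht b w
      rw [hδ] at h8
      have h10 : R (b : D)⁻¹ w = R b w := (sub_eq_zero.1 h8).symm
      rw [h10, ← two_smul k] at h9
      have h11 : t b = 2 := by
        rw [h6, add_zero, div_eq_one_iff_eq h2] at hb1
        exact hb1
      rw [h11] at h9
      exact smul_right_injective V h2 h9
    apply Subtype.ext
    apply hinj
    rw [Subgroup.coe_one, map_one]
    ext w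
    exact h7 w

theorem pow_nine : ∀ π : Equiv.Perm (Fin 6), π ^ 9 = 1 → π ^ 3 = 1 := by decide +kernel

theorem odd_of_conj' : ∀ σ : Equiv.Perm (Fin 6), σ * c5 ^ 2 = c5⁻¹ * σ → Equiv.Perm.sign σ = -1 := by decide +kernel

theorem odd_of_conj'' : ∀ σ : Equiv.Perm (Fin 6), σ * c5 ^ 2 = c5 * σ → Equiv.Perm.sign σ = -1 := by decide +kernel

/-- the 3-part -/
theorem three_false (R : D →* (V →ₗ[k] V)) (hR : Quat R) (h2 : (2 : k) ≠ 0) (hinj : Function.Injective R) (h3 : (3 : k) ≠ 0)
    (ψ : D →* Equiv.Perm (Fin 6)) (himg : ψ.range = alternatingGroup (Fin 6)) : False := by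
  classical
  have : Fact (Nat.Prime 3) := ⟨Nat.prime_three⟩
  let S : Sylow 3 D := Classical.arbitrary _
  obtain ⟨v, hv, χ, hχ, -⟩ := exists_char R hR h2 hinj (r := 3) (by norm_num) (by exact_mod_cast h3) (S : Subgroup D) S.2
  have hcyc : IsCyclic (S : Subgroup D) := isCyclic_of_injective_ringHom χ hχ
  let S' : Sylow 3 ψ.range := S.mapSurjective ψ.rangeRestrict_surjective
  have hc : Nat.card (S' : Subgroup ψ.range) = 9 := by
    rw [Sylow.card_eq_multiplicity]
    have h4 : Nat.card ψ.range = 360 := by rw [himg]; exact card_A6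
    rw [h4]
    have : (360 : ℕ).factorization 3 = 2 := by
      have h5 : (360 : ℕ) = 3 ^ 2 * 40 := by norm_num
      rw [h5, Nat.factorization_mul (by norm_num) (by norm_num), Nat.factorization_pow]
      simp only [Finsupp.add_apply, Finsupp.smul_apply, Nat.prime_three.factorization_self]
      rw [Nat.factorization_eq_zero_of_not_dvd (by norm_num)]
      norm_num
    rw [this]; norm_num
  obtain ⟨w, hw⟩ := hcyc.exists_generator
  -- every element of `S'` has cube one
  have h6 : (ψ w) ^ 9 = 1 := by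
    have h7 : (⟨ψ.rangeRestrict w, ⟨w, w.2, rfl⟩⟩ : (S' : Subgroup ψ.range)) ^ 9 = 1 := by
      rw [← hc]; exact pow_card_eq_one'
    have h8 := congrArg (fun u : (S' : Subgroup ψ.range) => ((u : ψ.range) : Equiv.Perm (Fin 6))) h7
    simpa using h8
  have h7 := pow_nine _ h6
  have h8 : Nat.card (S' : Subgroup ψ.range) ≤ 3 := by
    have h9 : (S' : Subgroup ψ.range) ≤ zpowers (ψ.rangeRestrict w) := by
      rintro _ ⟨u, hu, rfl⟩
      obtain ⟨n, hn⟩ := mem_zpowers_iff.1 (hw ⟨u, hu⟩)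
      rw [mem_zpowers_iff]
      refine ⟨n, ?_⟩
      rw [← map_zpow, ← SubgroupClass.coe_zpow, hn]
    refine (Subgroup.card_le_of_le h9).trans ?_
    rw [Nat.card_zpowers]
    refine Nat.le_of_dvd (by norm_num) (orderOf_dvd_of_pow_eq_one ?_)
    apply Subtype.ext
    simpa using h7
  omega

/-- the 5-part -/
theorem five_false (R : D →* (V →ₗ[k] V)) (hR : Quat R) (h2 : (2 : k) ≠ 0) (hinj : Function.Injective R) (h5 : (5 : k) ≠ 0)
    (ψ : D →* Equiv.Perm (Fin 6)) (hev : ∀ g, Equiv.Perm.sign (ψ g) = 1) (x y : D) (x5 : ∃ m, x ^ 5 ^ m = 1)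
    (y5 : ∃ m, y ^ 5 ^ m = 1) (hxy : ∃ t : k, (∀ v, R x v + R x⁻¹ v = t • v) ∧ ∀ v, R y v + R y⁻¹ v = t • v)
    (hx : ψ x = c5) (hy : ψ y = c5 ^ 2) : False := by
  classical
  have : Fact (Nat.Prime 5) := ⟨Nat.prime_five⟩
  have hp : ∀ u : D, (∃ m, u ^ 5 ^ m = 1) → IsPGroup 5 (zpowers u) := by
    rintro u ⟨m, hm⟩
    rw [IsPGroup.iff_card]
    have h2 : orderOf u ∣ 5 ^ m := orderOf_dvd_of_pow_eq_one hm
    obtain ⟨j, -, hj⟩ := (Nat.dvd_prime_pow Nat.prime_five).1 h2
    exact ⟨j, by rw [Nat.card_zpowers, hj]⟩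
  obtain ⟨S, hS⟩ := (hp x x5).exists_le_sylow
  obtain ⟨S', hS'⟩ := (hp y y5).exists_le_sylow
  obtain ⟨g, hg⟩ := MulAction.exists_smul_eq D S' S
  have hxS : x ∈ (S : Subgroup D) := hS (mem_zpowers x)
  have hyS' : y ∈ (S' : Subgroup D) := hS' (mem_zpowers y)
  have hyS : g * y * g⁻¹ ∈ (S : Subgroup D) := by
    rw [← hg]
    change _ ∈ ((g • S' : Sylow 5 D) : Subgroup D)
    rw [Sylow.coe_subgroup_smul, Subgroup.mem_pointwise_smul_iff_inv_smul_mem]
    have : (MulAut.conj g)⁻¹ • (g * y * g⁻¹) = y := by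
      rw [← map_inv]
      change g⁻¹ * (g * y * g⁻¹) * g⁻¹⁻¹ = y
      group
    rw [this]
    exact hyS'
  obtain ⟨v, hv, χ, hχ, hχv⟩ := exists_char R hR h2 hinj (r := 5) (by norm_num) (by exact_mod_cast h5) (S : Subgroup D) S.2
  obtain ⟨t, htx, hty⟩ := hxy
  -- the same scalar for the conjugate
  have hty' : ∀ v, R (g * y * g⁻¹) v + R (g * y * g⁻¹)⁻¹ v = t • v := by
    intro v
    have e1 : (g * y * g⁻¹)⁻¹ = g * y⁻¹ * g⁻¹ := by group
    rw [e1, map_mul, map_mul, map_mul, map_mul]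
    simp only [Module.End.mul_apply]
    rw [← map_add, hty, map_smul, mul_apply', mul_inv_cancel, map_one, Module.End.one_apply]
  -- the characters
  set X : (S : Subgroup D) := ⟨x, hxS⟩ with hX
  set Y : (S : Subgroup D) := ⟨g * y * g⁻¹, hyS⟩ with hY
  have hsum : ∀ Z : (S : Subgroup D), (∀ v, R (Z : D) v + R (Z : D)⁻¹ v = t • v) → χ Z + χ Z⁻¹ = t := by
    intro Z hZ
    have h6 := hZ v
    rw [hχv Z] at h6
    have h7 : R (Z : D)⁻¹ v = χ Z⁻¹ • v := hχv Z⁻¹
    rw [h7, ← add_smul] at h6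
    exact smul_left_injective k hv h6
  have hm : ∀ Z : (S : Subgroup D), χ Z * χ Z⁻¹ = 1 := by
    intro Z
    rw [← map_mul, mul_inv_cancel, map_one]
  have e1 := hsum X htx
  have e2 := hsum Y hty'
  have e3 : (χ Y - χ X) * (χ Y - χ X⁻¹) = 0 := by
    have m1 := hm X
    have m2 := hm Y
    have : (χ Y - χ X) * (χ Y - χ X⁻¹) = χ Y * χ Y - (χ X + χ X⁻¹) * χ Y + χ X * χ X⁻¹ := by ring
    rw [this, m1, e1, ← e2, ← m2]; ring
  have hψg := hev g
  rcases mul_eq_zero.1 e3 with h6 | h6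
  · have h7 : Y = X := hχ (sub_eq_zero.1 h6)
    have h8 : g * y * g⁻¹ = x := congrArg Subtype.val h7
    have h9 : ψ g * c5 ^ 2 = c5 * ψ g := by
      rw [← hy, ← hx, ← h8]
      simp only [map_mul, map_inv]; group
    have h10 := odd_of_conj'' _ h9
    rw [hψg] at h10
    exact absurd h10 (by decide)
  · have h7 : Y = X⁻¹ := hχ (sub_eq_zero.1 h6)
    have h8 : g * y * g⁻¹ = x⁻¹ := congrArg Subtype.val h7
    have h9 : ψ g * c5 ^ 2 = c5⁻¹ * ψ g := by
      rw [← hy, ← hx, ← map_inv, ← h8]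
      simp only [map_mul, map_inv]; group
    have h10 := odd_of_conj' _ h9
    rw [hψg] at h10
    exact absurd h10 (by decide)

/-- the quotient by the kernel -/
theorem exists_quot {D : Type w} [Group D] [Finite D] {M P : Type*} [Monoid M] [Group P] (R : D →* M) (ψ : D →* P)
    (hker : ∀ g, R g = 1 → ψ g = 1) :
    ∃ (Q : Type w) (_ : Group Q) (_ : Finite Q) (p : D →* Q) (R' : Q →* M) (ψ' : Q →* P), Function.Surjective p ∧
      (∀ g, R' (p g) = R g) ∧ (∀ g, ψ' (p g) = ψ g) ∧ Function.Injective R' := by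
  refine ⟨D ⧸ R.ker, inferInstance, inferInstance, QuotientGroup.mk' R.ker, QuotientGroup.lift R.ker R le_rfl,
    QuotientGroup.lift R.ker ψ (fun g hg => ?_), QuotientGroup.mk'_surjective _, fun g => ?_, fun g => ?_, ?_⟩
  · exact hker g hg
  · rfl
  · rfl
  · refine (injective_iff_map_eq_one _).2 fun g => ?_
    obtain ⟨g, rfl⟩ := QuotientGroup.mk'_surjective _ g
    intro h
    exact (QuotientGroup.eq_one_iff g).2 h

/-- **The contradiction.** -/
theorem quat_false (R : D →* (V →ₗ[k] V)) (hR : Quat R) (h2 : (2 : k) ≠ 0)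
    (ψ : D →* Equiv.Perm (Fin 6)) (hker : ∀ g, R g = 1 → ψ g = 1) (himg : ψ.range = alternatingGroup (Fin 6))
    (x y : D) (x5 : ∃ m, x ^ 5 ^ m = 1)
    (y5 : ∃ m, y ^ 5 ^ m = 1) (hxy : ∃ t : k, (∀ v, R x v + R x⁻¹ v = t • v) ∧ ∀ v, R y v + R y⁻¹ v = t • v)
    (hx : ψ x = c5) (hy : ψ y = c5 ^ 2) : False := by
  classical
  -- the quotient by the kernel
  obtain ⟨Q, _, _, p, R', ψ', hp, hR', hψ', hinj⟩ := exists_quot R ψ hker
  have hQ : Quat R' := by
    intro g
    obtain ⟨g, rfl⟩ := hp g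
    obtain ⟨t, ht⟩ := hR g
    refine ⟨t, fun v => ?_⟩
    rw [← map_inv, hR', hR', ht]
  have hr' : ψ'.range = alternatingGroup (Fin 6) := by
    rw [← himg]
    ext π
    constructor
    · rintro ⟨g, rfl⟩
      obtain ⟨g, rfl⟩ := hp g
      exact ⟨g, (hψ' g).symm⟩
    · rintro ⟨g, rfl⟩
      exact ⟨p g, hψ' g⟩
  by_cases h3 : (3 : k) = 0
  · have h5 : (5 : k) ≠ 0 := by
      intro h5
      have : (1 : k) = 2 * 3 - 5 := by norm_num
      rw [h3, h5] at this
      simp at this
    refine five_false R' hQ h2 hinj h5 ψ' ?_ (p x) (p y) ?_ ?_ ?_ (by rw [hψ', hx]) (by rw [hψ', hy])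
    · intro g
      have h6 : ψ' g ∈ alternatingGroup (Fin 6) := hr' ▸ ⟨g, rfl⟩
      exact mem_alternatingGroup.1 h6
    · obtain ⟨m, hm⟩ := x5
      exact ⟨m, by rw [← map_pow, hm, map_one]⟩
    · obtain ⟨m, hm⟩ := y5
      exact ⟨m, by rw [← map_pow, hm, map_one]⟩
    · obtain ⟨t, h6, h7⟩ := hxy
      refine ⟨t, fun v => ?_, fun v => ?_⟩
      · rw [← map_inv, hR', hR', h6]
      · rw [← map_inv, hR', hR', h7]
  · exact three_false R' hQ h2 hinj h3 ψ' hr'

end Cfsg.Agent.H271.Co3
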